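import Groth.Prelude.Def_CurvBase
import Groth.Agent.Lib.Curves.HurwitzLocal
import Groth.Agent.Lib.CurveFF.SkySections
import Groth.Agent.Lib.SurfInt.JPow
import Groth.Agent.Lib.SurfInt.AmpleVanish
import Groth.Agent.Lib.SurfFactor85.Main
import Groth.Agent.Lib.ModelFibre.StalkIdeal
import Groth.Agent.Lib.Cyc.SmoothReg
import Groth.Agent.Lib.Cyc.TorPD

/-!
# The colength of a power of the maximal ideal at closed points of a smooth surface
-/

set_option autoImplicit false
set_option linter.style.haveILetI false
universe u v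

open CategoryTheory AlgebraicGeometry TopologicalSpace IsLocalRing

noncomputable section

namespace Groth.Agent.Lib.Jets27.Colength

/-- A local `k`-algebra with residue field `k` and two generators of the maximal ideal. -/
theorem finrank_quot_pow_le {k : Type u} [Field k] {R : Type v} [CommRing R] [IsLocalRing R]
    [Algebra k R] (hres : Function.Surjective ((residue R).comp (algebraMap k R))) {a b : R}
    (hm : maximalIdeal R = Ideal.span {a, b}) (N : ℕ) :
    Module.Finite k (R ⧸ maximalIdeal R ^ N) ∧
      Module.finrank k (R ⧸ maximalIdeal R ^ N) * 2 ≤ N * (N + 1) := by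
  classical
  let T : ℕ → Finset R := fun n =>
    (Finset.range n).biUnion fun d => (Finset.range (d + 1)).image fun i => a ^ i * b ^ (d - i)
  -- `m ^ n` is spanned by the monomials of degree `n`
  have hpow : ∀ n : ℕ, maximalIdeal R ^ n ≤
      Ideal.span (((Finset.range (n + 1)).image fun i => a ^ i * b ^ (n - i) : Finset R) : Set R) := by
    intro n
    induction n with
    | zero => simp
    | succ n ih =>
      rw [pow_succ, hm]
      refine (Ideal.mul_mono_left (hm ▸ ih)).trans ?_
      rw [Ideal.span_mul_span', Ideal.span_le]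
      rintro _ ⟨p, hp, q, hq, rfl⟩
      simp only [Finset.coe_image, Finset.coe_range, Set.mem_image, Set.mem_Iio] at hp
      obtain ⟨i, hi, rfl⟩ := hp
      refine Ideal.subset_span ?_
      simp only [Finset.coe_image, Finset.coe_range, Set.mem_image, Set.mem_Iio]
      rcases hq with rfl | rfl
      · exact ⟨i + 1, by omega, by rw [show n + 1 - (i + 1) = n - i by omega]; ring⟩
      · exact ⟨i, by omega, by rw [show n + 1 - i = n - i + 1 by omega]; ring⟩
  let q : ∀ n : ℕ, R →ₐ[k] R ⧸ maximalIdeal R ^ n := fun n => Ideal.Quotient.mkₐ k _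
  have hsum : ∀ n : ℕ, ∀ r : R, ∃ c ∈ Submodule.span k (T n : Set R), r - c ∈ maximalIdeal R ^ n := by
    intro n
    induction n with
    | zero => exact fun r => ⟨0, zero_mem _, by simp⟩
    | succ n ih =>
      intro r
      obtain ⟨c, hc, hrc⟩ := ih r
      have hmono : T n ⊆ T (n + 1) := Finset.biUnion_subset_biUnion_of_subset_left _
        (Finset.range_subset_range.2 n.le_succ)
      suffices ∃ c' ∈ Submodule.span k (T (n + 1) : Set R), r - c - c' ∈ maximalIdeal R ^ (n + 1) by
        obtain ⟨c', hc', h⟩ := this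
        exact ⟨c + c', add_mem (Submodule.span_mono (Finset.coe_subset.2 hmono) hc) hc', by
          rwa [← sub_sub]⟩
      generalize r - c = x at hrc ⊢
      obtain ⟨g, hg⟩ := Submodule.mem_span_finset.mp (hpow n hrc)
      choose s hs using fun p : R => hres (residue R (g p))
      refine ⟨∑ p ∈ (Finset.range (n + 1)).image fun i => a ^ i * b ^ (n - i), s p • p,
        Submodule.sum_mem _ fun p hp => Submodule.smul_mem _ _ (Submodule.subset_span ?_), ?_⟩
      · exact Finset.mem_biUnion.2 ⟨n, Finset.self_mem_range_succ n, hp⟩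
      · rw [← hg.2, ← Finset.sum_sub_distrib]
        refine Submodule.sum_mem _ fun p hp => ?_
        obtain ⟨i, hi, rfl⟩ := Finset.mem_image.1 hp
        rw [Finset.mem_range] at hi
        have h1 : g (a ^ i * b ^ (n - i)) - algebraMap k R (s (a ^ i * b ^ (n - i))) ∈ maximalIdeal R :=
          (residue_eq_zero_iff _).1 (by rw [map_sub, sub_eq_zero]; exact (hs _).symm)
        have h2 : a ^ i * b ^ (n - i) ∈ maximalIdeal R ^ n := by
          have ha : a ∈ maximalIdeal R := hm ▸ Ideal.subset_span (Set.mem_insert a {b})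
          have hb : b ∈ maximalIdeal R :=
            hm ▸ Ideal.subset_span (Set.mem_insert_of_mem a (Set.mem_singleton b))
          have := Ideal.mul_mem_mul (Ideal.pow_mem_pow ha i) (Ideal.pow_mem_pow hb (n - i))
          rwa [← pow_add, Nat.add_sub_cancel' (by omega)] at this
        rw [smul_eq_mul, Algebra.smul_def, ← sub_mul, pow_succ']
        exact Ideal.mul_mem_mul h1 h2
  have hspan : Submodule.span k (((T N).image (q N) : Finset _) : Set (R ⧸ maximalIdeal R ^ N)) = ⊤ := by
    rw [Submodule.eq_top_iff']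
    intro y
    obtain ⟨r, rfl⟩ := Ideal.Quotient.mk_surjective y
    obtain ⟨c, hc, h⟩ := hsum N r
    rw [(Ideal.Quotient.eq).2 h, Finset.coe_image, show ⇑(q N) = ⇑(q N).toLinearMap from rfl,
      ← Submodule.map_span]
    exact ⟨c, hc, rfl⟩
  have hfin : Module.Finite k (R ⧸ maximalIdeal R ^ N) := ⟨⟨_, hspan⟩⟩
  refine ⟨hfin, ?_⟩
  have h1 : Module.finrank k (R ⧸ maximalIdeal R ^ N) ≤ (T N).card := by
    rw [← finrank_top k (R ⧸ maximalIdeal R ^ N), ← hspan]
    exact (finrank_span_finset_le_card _).trans Finset.card_image_le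
  have h2 : (T N).card * 2 ≤ N * (N + 1) := by
    refine (Nat.mul_le_mul_right 2 (Finset.card_biUnion_le.trans (Finset.sum_le_sum fun d _ =>
      Finset.card_image_le.trans (Finset.card_range (d + 1)).le))).trans_eq ?_
    have h := Finset.sum_range_id_mul_two (N + 1)
    rw [Finset.sum_range_succ' (fun i => i), add_zero, Nat.add_sub_cancel] at h
    rw [h, mul_comm]
  exact (Nat.mul_le_mul_right 2 h1).trans h2

variable (k : Type u) [Field k] [IsAlgClosed k] {X : Scheme.{u}}
  [X.Over (Spec (CommRingCat.of k))] [LocallyOfFiniteType (X ↘ Spec (CommRingCat.of k))]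

/-- The residue field of a closed point is `k`. -/
theorem surjective_resMap {x : X} (hx : IsClosed ({x} : Set X)) :
    Function.Surjective (Curv2.resMap k X x) := by
  obtain ⟨U, hU, hxU, -⟩ := exists_isAffineOpen_mem_and_subset (show x ∈ (⊤ : X.Opens) from trivial)
  letI := Curv2.resAlgebra k X x
  haveI := Curves.HurwitzLocal.finite_residueField (k := k) hU hxU hx
  exact (IsAlgClosed.algebraMap_bijective_of_isIntegral (k := k) (K := X.residueField x)).2

/-- The stalk at `z` of a quotient of a twist by an ideal containing `m_z ^ N` there. -/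
theorem finrank_stalk_le (hdim : topologicalKrullDim X ≤ 2)
    (hreg : ∀ x : X, IsRegularLocalRing (X.presheaf.stalk x)) {z : X} (hz : IsClosed ({z} : Set X))
    (J : X.IdealSheafData) (N : ℕ)
    (hJ : maximalIdeal (X.presheaf.stalk z) ^ N ≤ Ideal.Prime.stalkIdeal J z) {M : X.Modules}
    (hM : PicF.IsInvertible M) :
    letI := CurveFF.SkySections.stalkMod (k := k) (CohB1.tensorMod M (_root_.ClSub.quotMod J)) z
    Module.Finite k ((CohB1.tensorMod M (_root_.ClSub.quotMod J)).presheaf.stalk z) ∧
      Module.finrank k ((CohB1.tensorMod M (_root_.ClSub.quotMod J)).presheaf.stalk z) * 2 ≤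
        N * (N + 1) := by
  letI := CurveFF.SkySections.stalkMod (k := k) (CohB1.tensorMod M (_root_.ClSub.quotMod J)) z
  letI : Algebra k (X.presheaf.stalk z) := Curv2.stalkAlgebra k X z
  haveI := hreg z
  have hfg : (maximalIdeal (X.presheaf.stalk z)).FG := IsNoetherian.noetherian _
  have hle : (maximalIdeal (X.presheaf.stalk z)).spanFinrank ≤ 2 := by
    have h := (IsRegularLocalRing.spanFinrank_maximalIdeal (R := X.presheaf.stalk z)).le.trans
      ((Cyc.TorPD.ringKrullDim_stalk_le z).trans hdim)
    exact_mod_cast h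
  obtain ⟨a, b, hab⟩ : ∃ a b, maximalIdeal (X.presheaf.stalk z) = Ideal.span {a, b} := by
    classical
    obtain ⟨s, hsc, hs⟩ := Submodule.FG.exists_span_finset_card_eq_spanFinrank hfg
    obtain ⟨l, hl, rfl⟩ : ∃ l : List (X.presheaf.stalk z), l.length ≤ 2 ∧ l.toFinset = s :=
      ⟨s.toList, by simp only [Finset.length_toList]; omega, s.toList_toFinset⟩
    match l, hl with
    | [], _ => exact ⟨0, 0, by rw [← hs]; simp⟩
    | [a], _ => exact ⟨a, a, by rw [← hs]; simp⟩
    | [a, b], _ => exact ⟨a, b, by rw [← hs]; simp⟩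
  obtain ⟨hfin, hbound⟩ := finrank_quot_pow_le (k := k) (surjective_resMap k hz) hab N
  obtain ⟨e⟩ := Snapper.Twist.exists_stalkEquiv_twist hM (_root_.ClSub.quotMod J) z
  let f : X.presheaf.stalk z →ₗ[X.presheaf.stalk z]
      (CohB1.tensorMod M (_root_.ClSub.quotMod J)).presheaf.stalk z :=
    e.symm.toLinearMap ∘ₗ SurfInt.Stalk.quotStalk J z
  have hker : maximalIdeal (X.presheaf.stalk z) ^ N ≤ LinearMap.ker f := fun r hr => by
    have h : r ∈ LinearMap.ker (SurfInt.Stalk.quotStalk J z) := by
      rw [SurfInt.Stalk.ker_quotStalk]; exact hJ hr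
    rw [LinearMap.mem_ker] at h ⊢
    rw [LinearMap.comp_apply, h, map_zero]
  let g := Submodule.liftQ _ f hker
  let gk : (X.presheaf.stalk z ⧸ maximalIdeal (X.presheaf.stalk z) ^ N) →ₗ[k]
      (CohB1.tensorMod M (_root_.ClSub.quotMod J)).presheaf.stalk z :=
    { toFun := g
      map_add' := map_add g
      map_smul' := fun c x => by
        rw [RingHom.id_apply, ← algebraMap_smul (X.presheaf.stalk z) c x, map_smul]
        rfl }
  have hsurj : Function.Surjective gk := fun y => by
    obtain ⟨r, hr⟩ := (e.symm.surjective.comp (SurfInt.Stalk.quotStalk_surjective J z)) y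
    exact ⟨Submodule.Quotient.mk r, hr⟩
  haveI := hfin
  exact ⟨Module.Finite.of_surjective gk hsurj,
    (Nat.mul_le_mul_right 2 (LinearMap.finrank_le_finrank_of_surjective hsurj)).trans hbound⟩

end Groth.Agent.Lib.Jets27.Colength
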