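import Groth.Prelude.Def_W4c2seshadriposJets
import Groth.Prelude.Def_CurvBase
import Groth.Agent.Lib.CohDelta.KBC.Sections
import Groth.Agent.Lib.Exchange.Thick.Unit

/-!
# Separation of jets and extensions of the base field
-/

set_option autoImplicit false
set_option linter.style.haveILetI false
universe u v

open CategoryTheory CategoryTheory.Limits AlgebraicGeometry Opposite TopologicalSpace

noncomputable section

namespace Groth.Agent.Lib.Jets27.BaseChange

open W4c1astiltbs12 Groth.Agent.Lib Groth.Agent.Lib.CohDelta.KBC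
open Groth.Agent.Lib.TensorMod.Dual (rs rs_rs rs_smul rs_self)

variable {X : Scheme.{u}}

theorem pointIdeal_ideal {x : X} (hx : IsClosed ({x} : Set X)) (U : X.affineOpens) (hxU : x ∈ U.1) :
    (W4c2seshadripos.pointIdeal x hx).ideal U = (U.2.primeIdealOf ⟨x, hxU⟩).asIdeal := by
  rw [W4c2seshadripos.pointIdeal, Scheme.IdealSheafData.vanishingIdeal_ideal]
  have h : U.2.fromSpec ⁻¹' ({x} : Set X) = {U.2.primeIdealOf ⟨x, hxU⟩} := by
    ext z
    refine ⟨fun hz => U.2.fromSpec.isOpenEmbedding.injective ?_, ?_⟩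
    · exact (Set.mem_singleton_iff.1 hz).trans (U.2.fromSpec_primeIdealOf ⟨x, hxU⟩).symm
    · rintro rfl
      exact U.2.fromSpec_primeIdealOf ⟨x, hxU⟩
  exact (congrArg PrimeSpectrum.vanishingIdeal h).trans (PrimeSpectrum.vanishingIdeal_singleton _)

theorem mem_pointIdeal_iff {x : X} (hx : IsClosed ({x} : Set X)) (U : X.affineOpens) (hxU : x ∈ U.1)
    (a : Γ(X, U.1)) :
    a ∈ (W4c2seshadripos.pointIdeal x hx).ideal U ↔ x ∉ X.basicOpen a := by
  rw [pointIdeal_ideal hx U hxU, IsAffineOpen.primeIdealOf_eq_map_closedPoint, X.mem_basicOpen _ _ hxU]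
  rfl

/-- Separation of jets on an affine neighbourhood of the point. -/
theorem separatesJets_iff [IsLocallyNoetherian X] {F : X.Modules} (hF : Coh.IsCoh F) {x : X}
    (hx : IsClosed ({x} : Set X)) (l : ℕ) (U : X.affineOpens) (hxU : x ∈ U.1) :
    W4c2seshadripos.SeparatesJets F x hx l ↔ ∀ m : Γ(F, U.1), ∃ s : Γ(F, ⊤),
      rs F le_top s - m ∈
        (W4c2seshadripos.pointIdeal x hx).ideal U ^ (l + 1) • (⊤ : Submodule Γ(X, U.1) Γ(F, U.1)) := by
  set I := (W4c2seshadripos.pointIdeal x hx) ^ (l + 1) with hI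
  set i := I.subschemeι
  let η := Exchange.Thick.Unit.η i F
  let G := (Scheme.Modules.pushforward i).obj ((Scheme.Modules.pullback i).obj F)
  have hIU : i.ker.ideal ⟨U.1, U.2⟩ = (W4c2seshadripos.pointIdeal x hx).ideal U ^ (l + 1) := by
    rw [Scheme.IdealSheafData.ker_subschemeι]
    rfl
  have hpre : i ⁻¹ᵁ U.1 = ⊤ := top_unique fun z _ => by
    have h1 : i z ∈ (I.support : Set X) := by
      rw [← I.range_subschemeι]; exact ⟨z, rfl⟩
    have h2 : i z = x := (Scheme.IdealSheafData.coe_support_vanishingIdeal _).le h1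
    show i z ∈ U.1
    rw [h2]; exact hxU
  let M := (Scheme.Modules.pullback i).obj F
  have hbij : Function.Bijective (rs G (le_top : U.1 ≤ ⊤)) := by
    show Function.Bijective (rs M (le_top : i ⁻¹ᵁ U.1 ≤ (⊤ : I.subscheme.Opens)))
    refine Function.bijective_iff_has_inverse.2 ⟨rs M hpre.ge, fun a => ?_, fun a => ?_⟩
    · exact (rs_rs M _ _ a).trans (rs_self M _ a)
    · exact (rs_rs M _ _ a).trans (rs_self M _ a)
  have hnat : ∀ s : Γ(F, ⊤), rs G le_top (η.app ⊤ s) = η.app U.1 (rs F le_top s) := fun s =>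
    (η.mapPresheaf.naturality_apply (homOfLE (le_top : U.1 ≤ ⊤)).op s).symm
  have hH : W4c2seshadripos.SeparatesJets F x hx l ↔ Function.Surjective (η.app ⊤) := by
    let e₁ := Sheaf.H.equiv₀ (Coh.toAb F) (T := (⊤ : X.Opens)) isTerminalTop
    let e₂ := Sheaf.H.equiv₀ (Coh.toAb G) (T := (⊤ : X.Opens)) isTerminalTop
    have hn : ∀ a, e₂ (W4c2seshadripos.resH I F a) = η.app ⊤ (e₁ a) := fun a =>
      (Sheaf.H.equiv₀_naturality (f := (SheafOfModules.toSheaf X.ringCatSheaf).map η)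
        (hT := (isTerminalTop : IsTerminal (⊤ : X.Opens))) a).symm
    constructor
    · intro h y
      obtain ⟨a, ha⟩ := h (e₂.symm y)
      exact ⟨e₁ a, (hn a).symm.trans ((congrArg e₂ ha).trans (AddEquiv.apply_symm_apply e₂ y))⟩
    · intro h y
      obtain ⟨s, hs⟩ := h (e₂ y)
      exact ⟨e₁.symm s, e₂.injective ((hn _).trans
        ((congrArg (η.app ⊤) (AddEquiv.apply_symm_apply e₁ s)).trans hs))⟩
  rw [hH]
  constructor
  · intro h m
    obtain ⟨y, hy⟩ := hbij.2 (η.app U.1 m)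
    obtain ⟨s, rfl⟩ := h y
    refine ⟨s, hIU ▸ (Exchange.Thick.Unit.app_eq_zero_iff i hF U.2 _).1 ?_⟩
    rw [map_sub, sub_eq_zero]
    exact (hnat s).symm.trans hy
  · intro h y
    obtain ⟨m, hm⟩ := Exchange.Thick.Unit.surjective_app i hF U.2 (rs G le_top y)
    obtain ⟨s, hs⟩ := h m
    refine ⟨s, hbij.1 ?_⟩
    rw [hnat, ← hm, ← sub_eq_zero, ← map_sub]
    exact (Exchange.Thick.Unit.app_eq_zero_iff i hF U.2 _).2 (hIU ▸ hs)

variable {k : Type u} [Field k] (p : X ⟶ Spec (CommRingCat.of k)) (K : Type u) [Field K] [Algebra k K]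
variable {ι : Type v} (b : Module.Basis ι k K)

theorem η_mem (G : X.Modules) {U : X.Opens} (I : Ideal Γ(X, U)) {m : Γ(G, U)}
    (hm : m ∈ I • (⊤ : Submodule Γ(X, U) Γ(G, U))) :
    η p K G U m ∈ I.map ((proj p K).app U).hom • (⊤ : Submodule Γ(W4bk4gw11416.baseChange p K, proj p K ⁻¹ᵁ U) Γ(bcMod p K G, proj p K ⁻¹ᵁ U)) := by
  refine Submodule.smul_induction_on hm (fun a ha t _ => ?_) fun s t hs ht => ?_
  · rw [η_smul]
    exact Submodule.smul_mem_smul (Ideal.mem_map_of_mem _ ha) trivial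
  · rw [map_add]
    exact add_mem hs ht

theorem Φ_mem_iff (G : X.Modules) [G.IsQuasicoherent] {U : X.Opens} (hU : IsAffineOpen U)
    (I : Ideal Γ(X, U)) (v : ι →₀ Γ(G, U)) :
    Φ p K b G U v ∈ I.map ((proj p K).app U).hom • (⊤ : Submodule Γ(W4bk4gw11416.baseChange p K, proj p K ⁻¹ᵁ U) Γ(bcMod p K G, proj p K ⁻¹ᵁ U)) ↔
      ∀ i, v i ∈ I • (⊤ : Submodule Γ(X, U) Γ(G, U)) := by
  classical
  constructor
  · intro hv
    suffices key : ∀ y ∈ I.map ((proj p K).app U).hom •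
        (⊤ : Submodule Γ(W4bk4gw11416.baseChange p K, proj p K ⁻¹ᵁ U) Γ(bcMod p K G, proj p K ⁻¹ᵁ U)),
        ∃ w : ι →₀ Γ(G, U), (∀ i, w i ∈ I • (⊤ : Submodule Γ(X, U) Γ(G, U))) ∧ Φ p K b G U w = y by
      obtain ⟨w, hw, e⟩ := key _ hv
      exact (Φ_bijective p K b G hU).1 e ▸ hw
    intro y hy
    refine Submodule.smul_induction_on hy (fun a ha t _ => ?_) ?_
    · rw [Ideal.map] at ha
      refine Submodule.span_induction (p := fun a _ => ∀ t, ∃ w : ι →₀ Γ(G, U),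
        (∀ i, w i ∈ I • (⊤ : Submodule Γ(X, U) Γ(G, U))) ∧ Φ p K b G U w = a • t) ?_ ?_ ?_ ?_ ha t
      · rintro _ ⟨a₀, ha₀, rfl⟩ t
        obtain ⟨w, rfl⟩ := (Φ_bijective p K b G hU).2 t
        exact ⟨a₀ • w, fun i => Submodule.smul_mem_smul ha₀ trivial, Φ_smul p K b G U a₀ w⟩
      · intro t
        exact ⟨0, fun i => zero_mem _, by rw [Φ, Finsupp.sum_zero_index, zero_smul]⟩
      · intro c d _ _ hc hd t
        obtain ⟨w, hw, e⟩ := hc t
        obtain ⟨w', hw', e'⟩ := hd t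
        exact ⟨w + w', fun i => add_mem (hw i) (hw' i), by rw [Φ_add, e, e', add_smul]⟩
      · intro r c _ hc t
        obtain ⟨w, hw, e⟩ := hc (r • t)
        exact ⟨w, hw, by rw [e, smul_assoc, smul_comm]⟩
    · rintro s t ⟨w, hw, rfl⟩ ⟨w', hw', rfl⟩
      exact ⟨w + w', fun i => add_mem (hw i) (hw' i), Φ_add p K b G U w w'⟩
  · intro hv
    rw [Φ]
    exact Submodule.finsuppSum_mem _ _ _ _ fun i _ => Submodule.smul_mem _ _ (η_mem p K G I (hv i))

theorem exists_glue (G : X.Modules) (t : ∀ U : X.affineOpens, Γ(G, U.1))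
    (ht : ∀ (U V : X.affineOpens) (h : V.1 ≤ U.1), rs G h (t U) = t V) :
    ∃ s : Γ(G, ⊤), ∀ U : X.affineOpens, rs G le_top s = t U := by
  obtain ⟨ψ, hψ⟩ := Modules.AffineHom.exists_hom_of_affine (M := Coh.structureModule X) (N := G)
    (fun U => LinearMap.toSpanSingleton Γ(X, U.1) Γ(G, U.1) (t U)) fun U V h m => by
      show rs G h ((show Γ(X, U.1) from m) • t U) = _
      rw [rs_smul, ht U V h]
      rfl
  refine ⟨ψ.app ⊤ (1 : Γ(X, ⊤)), fun U => ?_⟩
  refine (Modules.TensorSec.app_rs ψ (le_top : U.1 ≤ ⊤) (1 : Γ(X, ⊤))).symm.trans ?_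
  refine (hψ U _).trans ?_
  show (X.presheaf.map (homOfLE (le_top : U.1 ≤ ⊤)).op (1 : Γ(X, ⊤))) • t U = _
  rw [map_one, one_smul]

/-- The ideal of the point on the extended field. -/
theorem map_pointIdeal {x : X} (hsurj : ∀ (U : X.affineOpens), x ∈ U.1 →
      ∀ a : Γ(X, U.1), ∃ c : k, x ∉ X.basicOpen (a - c₀ p U.1 c))
    (hx : IsClosed ({x} : Set X)) {x' : ↥(W4bk4gw11416.baseChange p K)}
    (hx' : IsClosed ({x'} : Set ↥(W4bk4gw11416.baseChange p K))) (e : proj p K x' = x)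
    (U : X.affineOpens) (hxU : x ∈ U.1) :
    (W4c2seshadripos.pointIdeal x' hx').ideal ⟨proj p K ⁻¹ᵁ U.1, U.2.preimage _⟩ =
      ((W4c2seshadripos.pointIdeal x hx).ideal U).map ((proj p K).app U.1).hom := by
  have hx'U : x' ∈ proj p K ⁻¹ᵁ U.1 := by show proj p K x' ∈ U.1; rw [e]; exact hxU
  let m' := (W4c2seshadripos.pointIdeal x' hx').ideal ⟨proj p K ⁻¹ᵁ U.1, U.2.preimage _⟩
  let J := ((W4c2seshadripos.pointIdeal x hx).ideal U).map ((proj p K).app U.1).hom
  have hm' : m' ≠ ⊤ := by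
    show (W4c2seshadripos.pointIdeal x' hx').ideal _ ≠ ⊤
    rw [pointIdeal_ideal hx' _ hx'U]
    exact Ideal.IsPrime.ne_top'
  have hle : J ≤ m' := Ideal.map_le_iff_le_comap.2 fun a ha => by
    rw [mem_pointIdeal_iff hx U hxU] at ha
    rw [Ideal.mem_comap, mem_pointIdeal_iff hx' _ hx'U, ← Scheme.preimage_basicOpen]
    show ¬ proj p K x' ∈ X.basicOpen a
    rw [e]; exact ha
  refine le_antisymm (fun y hy => ?_) hle
  let bk := Module.Basis.ofVectorSpace k K
  obtain ⟨B, hB⟩ := exists_basis p K bk U.2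
  letI := ((proj p K).appLE U.1 (proj p K ⁻¹ᵁ U.1) le_rfl).hom.toAlgebra
  let f : K →+* Γ(W4bk4gw11416.baseChange p K, proj p K ⁻¹ᵁ U.1) :=
    ((W4bk4gw11416.baseChange p K).presheaf.map (homOfLE le_top).op).hom.comp
      (Coh.toGlobal (W4bk4gw11416.baseChangeTo p K))
  have hf : ∀ a, f a = cU p K U.1 a := fun _ => rfl
  have hall : ∀ z, ∃ a : K, z - f a ∈ J := fun z => by
    induction B.mem_span z using Submodule.span_induction with
    | mem z hz =>
      obtain ⟨i, rfl⟩ := hz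
      exact ⟨bk i, by rw [hB, hf, sub_self]; exact zero_mem _⟩
    | zero => exact ⟨0, by rw [map_zero, sub_self]; exact zero_mem _⟩
    | add z w _ _ hz hw =>
      obtain ⟨a, ha⟩ := hz
      obtain ⟨c, hc⟩ := hw
      refine ⟨a + c, ?_⟩
      rw [map_add, add_sub_add_comm]
      exact add_mem ha hc
    | smul r z _ hz =>
      obtain ⟨a, ha⟩ := hz
      obtain ⟨c, hc⟩ := hsurj U hxU r
      have h1 : ((proj p K).app U.1).hom r - f (algebraMap k K c) ∈ J := by
        rw [hf, cU_algebraMap, ← map_sub]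
        exact Ideal.mem_map_of_mem _ ((mem_pointIdeal_iff hx U hxU _).2 hc)
      refine ⟨algebraMap k K c * a, ?_⟩
      rw [Algebra.smul_def, map_mul]
      have e1 : algebraMap Γ(X, U.1) Γ(W4bk4gw11416.baseChange p K, proj p K ⁻¹ᵁ U.1) r =
          ((proj p K).app U.1).hom r := by
        show ((proj p K).appLE U.1 (proj p K ⁻¹ᵁ U.1) le_rfl).hom r = _
        rw [← Scheme.Hom.app_eq_appLE]
      rw [e1, show ∀ P Q R S : Γ(W4bk4gw11416.baseChange p K, proj p K ⁻¹ᵁ U.1),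
        P * Q - R * S = (P - R) * Q + R * (Q - S) from fun P Q R S => by ring]
      exact add_mem (Ideal.mul_mem_right _ _ h1) (Ideal.mul_mem_left _ _ ha)
  obtain ⟨a, ha⟩ := hall y
  rcases eq_or_ne a 0 with rfl | hne
  · rwa [map_zero, sub_zero] at ha
  · exfalso
    have h2 : f a ∈ m' := by
      have := sub_mem hy (hle ha)
      rwa [sub_sub_cancel] at this
    exact hm' (Ideal.eq_top_of_isUnit_mem _ h2 ((IsUnit.mk0 a hne).map f))

/-- Separation of jets descends and ascends along a field extension. -/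
theorem separatesJets_iff_bc [IsLocallyNoetherian X] [IsLocallyNoetherian (W4bk4gw11416.baseChange p K)]
    {x : X} (hsurj : ∀ (U : X.affineOpens), x ∈ U.1 →
      ∀ a : Γ(X, U.1), ∃ c : k, x ∉ X.basicOpen (a - c₀ p U.1 c))
    {F : X.Modules} (hF : Coh.IsCoh F) (hF' : Coh.IsCoh (bcMod p K F))
    (hx : IsClosed ({x} : Set X)) {x' : ↥(W4bk4gw11416.baseChange p K)}
    (hx' : IsClosed ({x'} : Set ↥(W4bk4gw11416.baseChange p K))) (e : proj p K x' = x) (l : ℕ) :
    W4c2seshadripos.SeparatesJets F x hx l ↔ W4c2seshadripos.SeparatesJets (bcMod p K F) x' hx' l := by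
  classical
  haveI := hF.1
  obtain ⟨U, -, hxU⟩ := Modules.AffineHom.exists_affine (show x ∈ (⊤ : X.Opens) from trivial)
  have hx'U : x' ∈ proj p K ⁻¹ᵁ U.1 := by show proj p K x' ∈ U.1; rw [e]; exact hxU
  rw [separatesJets_iff hF hx l U hxU,
    separatesJets_iff hF' hx' l ⟨proj p K ⁻¹ᵁ U.1, U.2.preimage _⟩ hx'U,
    map_pointIdeal p K hsurj hx hx' e U hxU, ← Ideal.map_pow]
  set I := (W4c2seshadripos.pointIdeal x hx).ideal U ^ (l + 1)
  let bk := Module.Basis.ofVectorSpace k K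
  have sub_eq : ∀ v w, Φ p K bk F U.1 v - Φ p K bk F U.1 w = Φ p K bk F U.1 (v - w) := fun v w => by
    rw [sub_eq_iff_eq_add, ← Φ_add, sub_add_cancel]
  constructor
  · intro h y
    obtain ⟨v, rfl⟩ := (Φ_bijective p K bk F U.2).2 y
    choose s hs using h
    let w : _ →₀ Γ(F, ⊤) := Finsupp.onFinset v.support (fun i => if i ∈ v.support then s (v i) else 0)
      fun i hi => by by_contra h'; exact hi (if_neg h')
    refine ⟨Φ p K bk F ⊤ w, ?_⟩
    refine (congrArg (fun z => z - Φ p K bk F U.1 v ∈ _) (Φ_res p K bk F (le_top : U.1 ≤ ⊤) w)).mpr ?_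
    rw [sub_eq, Φ_mem_iff p K bk F U.2]
    intro i
    rw [Finsupp.sub_apply, Finsupp.mapRange_apply, Finsupp.onFinset_apply]
    by_cases hi : i ∈ v.support
    · rw [if_pos hi]; exact hs (v i)
    · rw [if_neg hi, Modules.TensorSec.rs_zero, Finsupp.notMem_support_iff.1 hi, sub_self]
      exact zero_mem _
  · intro h m
    obtain ⟨i₀⟩ : Nonempty (Module.Basis.ofVectorSpaceIndex k K) := bk.index_nonempty
    obtain ⟨s', hs'⟩ := h (Φ p K bk F U.1 (Finsupp.single i₀ m))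
    let C : ∀ V : X.affineOpens, Γ(bcMod p K F, proj p K ⁻¹ᵁ V.1) → (_ →₀ Γ(F, V.1)) := fun V =>
      (Equiv.ofBijective _ (Φ_bijective p K bk F V.2)).symm
    have hC : ∀ (V : X.affineOpens) z, Φ p K bk F V.1 (C V z) = z := fun V z =>
      Equiv.ofBijective_apply_symm_apply _ (Φ_bijective p K bk F V.2) z
    let r : ∀ V : X.affineOpens, Γ(bcMod p K F, proj p K ⁻¹ᵁ V.1) := fun V =>
      rs (bcMod p K F) (le_top : proj p K ⁻¹ᵁ V.1 ≤ ⊤) s'
    obtain ⟨s, hs⟩ := exists_glue F (fun V => C V (r V) i₀) fun V W hVW => by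
      have e1 : (C V (r V)).mapRange (rs F hVW) (Modules.TensorSec.rs_zero F hVW) = C W (r W) := by
        refine (Φ_bijective p K bk F W.2).1 ?_
        rw [← Φ_res p K bk F hVW, hC, hC]
        exact rs_rs _ _ _ _
      exact DFunLike.congr_fun e1 i₀
    refine ⟨s, ?_⟩
    rw [hs U]
    have h1 : Φ p K bk F U.1 (C U (r U) - Finsupp.single i₀ m) ∈
        I.map ((proj p K).app U.1).hom • (⊤ : Submodule Γ(W4bk4gw11416.baseChange p K, proj p K ⁻¹ᵁ U.1) Γ(bcMod p K F, proj p K ⁻¹ᵁ U.1)) := by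
      rw [← sub_eq, hC]
      exact hs'
    have h2 := (Φ_mem_iff p K bk F U.2 I _).1 h1 i₀
    rwa [Finsupp.sub_apply, Finsupp.single_eq_same] at h2

end Groth.Agent.Lib.Jets27.BaseChange
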